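import Groth.Agent.MV52.Basic
import Groth.Prelude.Def_CohDer

namespace Groth.Agent.MV52

open CategoryTheory CategoryTheory.Limits

universe v u

section

variable {D : Type u} [Category.{v} D] [Preadditive D] {ι : Type v} (X : ι → D) [HasCoproduct X]

/-- Projection from a coproduct onto a summand. -/
noncomputable def sigmaPr (i : ι) : ∐ X ⟶ X i := by
  classical
  exact Sigma.desc fun k => if h : k = i then eqToHom (congrArg X h) else 0

theorem ι_sigmaPr_self (i : ι) : Sigma.ι X i ≫ sigmaPr X i = 𝟙 (X i) := by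
  classical
  simp [sigmaPr]

theorem ι_sigmaPr_ne {i k : ι} (h : k ≠ i) : Sigma.ι X k ≫ sigmaPr X i = 0 := by
  classical
  simp [sigmaPr, h]

/-- The complement of the projection onto finitely many summands. -/
noncomputable def sigmaOff (F : Finset ι) : ∐ X ⟶ ∐ X :=
  𝟙 _ - ∑ i ∈ F, sigmaPr X i ≫ Sigma.ι X i

theorem ι_sigmaOff {F : Finset ι} {k : ι} (hk : k ∈ F) : Sigma.ι X k ≫ sigmaOff X F = 0 := by
  rw [sigmaOff, Preadditive.comp_sub, Category.comp_id, Preadditive.comp_sum, Finset.sum_eq_single k]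
  · rw [← Category.assoc, ι_sigmaPr_self, Category.id_comp, sub_self]
  · intro i _ hi
    rw [← Category.assoc, ι_sigmaPr_ne X (Ne.symm hi), zero_comp]
  · exact fun h => absurd hk h

theorem sigmaOff_comp {F : Finset ι} (e : ∐ X ⟶ ∐ X) (he : ∀ k ∈ F, Sigma.ι X k ≫ e = 0) :
    sigmaOff X F ≫ e = e := by
  rw [sigmaOff, Preadditive.sub_comp, Category.id_comp, Preadditive.sum_comp, Finset.sum_eq_zero, sub_zero]
  intro i hi
  rw [Category.assoc, he i hi, comp_zero]

theorem homSum_of [DecidableEq ι] (K : D) (i : ι) (g : K ⟶ X i) :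
    CohDer.homSumToHomCoprod K X (DirectSum.of _ i g) = g ≫ Sigma.ι X i := by
  rw [CohDer.homSumToHomCoprod]
  convert DirectSum.toAddMonoid_of (fun i => Preadditive.rightComp K (Sigma.ι X i)) i g using 0
  rfl

theorem homSum_comp_pr [DecidableEq ι] (K : D) (φ : DirectSum ι fun i => K ⟶ X i) (k : ι) :
    CohDer.homSumToHomCoprod K X φ ≫ sigmaPr X k = φ k := by
  induction φ using DirectSum.induction_on with
  | zero => simp
  | of i g =>
    rw [homSum_of, Category.assoc]
    rcases eq_or_ne i k with rfl | h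
    · rw [ι_sigmaPr_self, Category.comp_id, DirectSum.of_eq_same]
    · rw [ι_sigmaPr_ne X h, comp_zero, DirectSum.of_eq_of_ne _ _ _ h.symm]
  | add a b ha hb => rw [map_add, Preadditive.add_comp, ha, hb]; rfl

theorem homSum_injective (K : D) : Function.Injective (CohDer.homSumToHomCoprod K X) := by
  classical
  intro a b h
  refine DFinsupp.ext fun k => ?_
  rw [← homSum_comp_pr X K a k, h, homSum_comp_pr]

theorem homSum_mem (K : D) (F : Finset ι) (f : K ⟶ ∐ X) (hf : f ≫ sigmaOff X F = 0) :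
    ∃ φ, CohDer.homSumToHomCoprod K X φ = f := by
  classical
  refine ⟨∑ i ∈ F, DirectSum.of _ i (f ≫ sigmaPr X i), ?_⟩
  rw [sigmaOff, Preadditive.comp_sub, Category.comp_id, sub_eq_zero, Preadditive.comp_sum] at hf
  conv_rhs => rw [hf]
  rw [map_sum]
  simp only [homSum_of, Category.assoc]

end

theorem exists_finset_kills {C D : Type u} [Category.{v} C] [Category.{v} D] [Preadditive C] [Preadditive D]
    [HasCoproducts.{v} D] (G : C ⥤ D) [G.IsLeftAdjoint] [G.PreservesZeroMorphisms] {ι : Type v} (X : ι → C)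
    [HasCoproduct X] {K : D} (hK : CohDer.IsCompactObject K) (t : K ⟶ G.obj (∐ X)) :
    ∃ F : Finset ι, ∀ e : ∐ X ⟶ ∐ X, (∀ i ∈ F, Sigma.ι X i ≫ e = 0) → t ≫ G.map e = 0 := by
  classical
  let adj := Adjunction.ofIsLeftAdjoint G
  let c : ∐ (fun i => G.obj (X i)) ⟶ G.obj (∐ X) := Sigma.desc fun i => G.map (Sigma.ι X i)
  let c' : G.obj (∐ X) ⟶ ∐ (fun i => G.obj (X i)) :=
    (adj.homEquiv _ _).symm (Sigma.desc fun i => adj.homEquiv _ _ (Sigma.ι (fun i => G.obj (X i)) i))
  have hc : c' ≫ c = 𝟙 _ := by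
    apply (adj.homEquiv _ _).injective
    rw [Adjunction.homEquiv_naturality_right]
    simp only [c', Equiv.apply_symm_apply]
    apply Sigma.hom_ext
    intro i
    rw [← Category.assoc, Sigma.ι_desc, ← Adjunction.homEquiv_naturality_right, Sigma.ι_desc,
      ← Adjunction.homEquiv_naturality_left, Category.comp_id]
  obtain ⟨φ, hφ⟩ := (hK ι fun i => G.obj (X i)).2 (t ≫ c')
  refine ⟨DFinsupp.support φ, fun e he => ?_⟩
  have ht : t = CohDer.homSumToHomCoprod K (fun i => G.obj (X i)) φ ≫ c := by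
    rw [hφ, Category.assoc, hc, Category.comp_id]
  rw [ht, ← DirectSum.sum_support_of φ, map_sum, Preadditive.sum_comp, Preadditive.sum_comp,
    Finset.sum_eq_zero]
  intro i hi
  rw [homSum_of]
  simp only [c, Category.assoc, Sigma.ι_desc_assoc]
  rw [← G.map_comp, he i hi, G.map_zero, comp_zero]

end Groth.Agent.MV52
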