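import Groth.Agent.MV52.Tri
import Groth.Prelude.Def_W4c3perfectstacksMV
import Mathlib.CategoryTheory.Adjunction.Limits

namespace Groth.Agent.MV52

open CategoryTheory CategoryTheory.Limits CategoryTheory.Pretriangulated W4c3perfectstacks

universe v u

variable {S S' R R' : Type u} [Category.{v} S] [Category.{v} S'] [Category.{v} R] [Category.{v} R']
  (q : MVSq S S' R R')

theorem right_adjoint_map_isZero {C D : Type u} [Category.{v} C] [Category.{v} D] {F : C ⥤ D} {G : D ⥤ C}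
    (adj : F ⊣ G) [HasZeroMorphisms C] {X : D} (hX : IsZero X) : IsZero (G.obj X) := by
  rw [IsZero.iff_id_eq_zero]
  exact (adj.homEquiv _ _).symm.injective (hX.eq_of_tgt _ _)

theorem bcApp_naturality {M M' : S'} (m : M ⟶ M') :
    q.jst.map (q.fls.map m) ≫ q.bcApp M' = q.bcApp M ≫ q.gls.map (q.jpst.map m) := by
  have h1 := q.adjG.unit.naturality (q.jst.map (q.fls.map m))
  have h2 : q.gst.map (q.jst.map (q.fls.map m)) ≫ q.e.hom.app (q.fls.obj M') =
      q.e.hom.app (q.fls.obj M) ≫ q.jpst.map (q.fst.map (q.fls.map m)) :=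
    q.e.hom.naturality (q.fls.map m)
  have h3 := q.adjF.counit.naturality m
  simp only [Functor.id_map, Functor.comp_map, Functor.id_obj, Functor.comp_obj] at h1 h3
  simp only [MVSq.bcApp, ← Functor.map_comp, Category.assoc, Functor.comp_obj, Functor.id_obj]
  erw [reassoc_of% h1]
  simp only [← Functor.map_comp]
  erw [reassoc_of% h2]
  rw [← Functor.map_comp]
  erw [h3]

theorem bc2App_naturality {P P' : R} (p : P ⟶ P') :
    q.fst.map (q.jls.map p) ≫ q.bc2App P' = q.bc2App P ≫ q.jpls.map (q.gst.map p) := by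
  have h1 := q.adjJp.unit.naturality (q.fst.map (q.jls.map p))
  have h2 : q.jpst.map (q.fst.map (q.jls.map p)) ≫ q.e.inv.app (q.jls.obj P') =
      q.e.inv.app (q.jls.obj P) ≫ q.gst.map (q.jst.map (q.jls.map p)) :=
    q.e.inv.naturality (q.jls.map p)
  have h3 := q.adjJ.counit.naturality p
  simp only [Functor.id_map, Functor.comp_map, Functor.id_obj, Functor.comp_obj] at h1 h3
  simp only [MVSq.bc2App, ← Functor.map_comp, Category.assoc, Functor.comp_obj, Functor.id_obj]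
  erw [reassoc_of% h1]
  simp only [← Functor.map_comp]
  erw [reassoc_of% h2]
  rw [← Functor.map_comp]
  erw [h3]

theorem isIso_jpst_fst {X Y : S} (u : X ⟶ Y) [IsIso (q.jst.map u)] :
    IsIso (q.jpst.map (q.fst.map u)) := by
  have : q.jpst.map (q.fst.map u) = q.e.inv.app X ≫ q.gst.map (q.jst.map u) ≫ q.e.hom.app Y := by
    have h := q.e.hom.naturality u
    simp only [Functor.comp_map] at h
    rw [h]; simp
  rw [this]; infer_instance

theorem isIso_jst_unit (hq : q.IsMV) (N : S) : IsIso (q.jst.map (q.adjJ.unit.app N)) := by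
  haveI := hq.isIso_counitJ
  have h : q.jst.map (q.adjJ.unit.app N) = inv (q.adjJ.counit.app (q.jst.obj N)) :=
    IsIso.eq_inv_of_inv_hom_id (q.adjJ.left_triangle_components N)
  rw [h]
  infer_instance

theorem isIso_jpst_unit (hq : q.IsMV) (M : S') : IsIso (q.jpst.map (q.adjJp.unit.app M)) := by
  haveI := hq.isIso_counitJp
  have h : q.jpst.map (q.adjJp.unit.app M) = inv (q.adjJp.counit.app (q.jpst.obj M)) :=
    IsIso.eq_inv_of_inv_hom_id (q.adjJp.left_triangle_components M)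
  rw [h]
  infer_instance

theorem isIso_jst_fls (hq : q.IsMV) {M M' : S'} (m : M ⟶ M') [IsIso (q.jpst.map m)] :
    IsIso (q.jst.map (q.fls.map m)) := by
  haveI := hq.isIso_bcApp M
  haveI := hq.isIso_bcApp M'
  exact IsIso.of_isIso_fac_right (bcApp_naturality q m)

theorem comp_eq_zero_cancel [HasZeroMorphisms S] {X Y : S} (u : X ⟶ Y) [IsIso (q.jst.map u)] (V : R')
    (t : Y ⟶ q.fls.obj (q.jpls.obj V)) (ht : u ≫ t = 0) : t = 0 := by
  haveI := isIso_jpst_fst q u
  have h2 : u ≫ t = u ≫ 0 := by rw [ht, comp_zero]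
  have h3 := congrArg (fun x => (q.adjJp.homEquiv _ _).symm ((q.adjF.homEquiv _ _).symm x)) h2
  simp only [Adjunction.homEquiv_naturality_left_symm, cancel_epi] at h3
  exact (q.adjF.homEquiv _ _).symm.injective ((q.adjJp.homEquiv _ _).symm.injective h3)

variable [Preadditive S] [Preadditive S'] [Preadditive R] [Preadditive R']
  [HasZeroObject S] [HasZeroObject S'] [HasZeroObject R] [HasZeroObject R']
  [HasShift S ℤ] [HasShift S' ℤ] [HasShift R ℤ] [HasShift R' ℤ]
  [∀ n : ℤ, (shiftFunctor S n).Additive] [∀ n : ℤ, (shiftFunctor S' n).Additive]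
  [∀ n : ℤ, (shiftFunctor R n).Additive] [∀ n : ℤ, (shiftFunctor R' n).Additive]
  [Pretriangulated S] [Pretriangulated S'] [Pretriangulated R] [Pretriangulated R']
  [q.jst.CommShift ℤ] [q.fst.CommShift ℤ] [q.jpst.CommShift ℤ] [q.gst.CommShift ℤ]
  [q.jst.IsTriangulated] [q.fst.IsTriangulated] [q.jpst.IsTriangulated] [q.gst.IsTriangulated]

theorem shift_killed {C D : Type u} [Category.{v} C] [Category.{v} D] [HasShift C ℤ] [HasShift D ℤ]
    [Preadditive D] [∀ n : ℤ, (shiftFunctor D n).Additive]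
    (F : C ⥤ D) [F.CommShift ℤ] {X : C} (h : IsZero (F.obj X)) (n : ℤ) : IsZero (F.obj (X⟦n⟧)) :=
  IsZero.of_iso (Functor.map_isZero (shiftFunctor D n) h) ((F.commShiftIso n).app X)

theorem orth_shift {C D : Type u} [Category.{v} C] [Category.{v} D] [HasShift C ℤ] [HasShift D ℤ]
    [Preadditive C] [∀ n : ℤ, (shiftFunctor C n).Additive]
    [Preadditive D] [∀ n : ℤ, (shiftFunctor D n).Additive]
    (F : C ⥤ D) [F.CommShift ℤ] {Z : C} (h : ∀ X, IsZero (F.obj X) → ∀ t : X ⟶ Z, t = 0)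
    (n : ℤ) (X : C) (hX : IsZero (F.obj X)) (t : X ⟶ Z⟦n⟧) : t = 0 := by
  have h' := h _ (shift_killed F hX (-n)) (t⟦-n⟧' ≫ (shiftShiftNeg Z n).hom)
  rw [← cancel_mono (shiftShiftNeg Z n).inv, Category.assoc, Iso.hom_inv_id, Category.comp_id, zero_comp] at h'
  exact (shiftFunctor C (-n)).map_injective (h'.trans (Functor.map_zero _ _ _).symm)

section killed

variable {C : S} (hC : IsZero (q.jst.obj C))

include hC

theorem orth_jls (W : R) (t : C ⟶ q.jls.obj W) : t = 0 :=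
  (q.adjJ.homEquiv _ _).symm.injective (hC.eq_of_src _ _)

theorem jpst_fst_isZero : IsZero (q.jpst.obj (q.fst.obj C)) :=
  IsZero.of_iso (Functor.map_isZero q.gst hC) (q.e.symm.app C)

theorem orth_fls_jpls (V : R') (t : C ⟶ q.fls.obj (q.jpls.obj V)) : t = 0 :=
  (q.adjF.homEquiv _ _).symm.injective
    ((q.adjJp.homEquiv _ _).symm.injective ((jpst_fst_isZero q hC).eq_of_src _ _))

end killed

theorem orth_jpls {M : S'} (hM : IsZero (q.jpst.obj M)) (V : R') (t : M ⟶ q.jpls.obj V) : t = 0 :=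
  (q.adjJp.homEquiv _ _).symm.injective (hM.eq_of_src _ _)

theorem comp_biprod_snd_bijective (T : Triangle S) (hT : T ∈ distTriang S) (W : R) (F : S)
    (p : T.obj₂ ⟶ q.jls.obj W) (s : q.jls.obj W ⟶ T.obj₂) (p' : T.obj₂ ⟶ F) (s' : F ⟶ T.obj₂)
    (hs' : s' ≫ p' = 𝟙 F) (htot : p ≫ s + p' ≫ s' = 𝟙 T.obj₂)
    (hZ : ∀ C, IsZero (q.jst.obj C) → ∀ t : C ⟶ T.obj₃, t = 0)
    {C : S} (hC : IsZero (q.jst.obj C)) :
    Function.Bijective (fun g : C ⟶ T.obj₁ => g ≫ T.mor₁ ≫ p') := by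
  have h1 := comp_mor₁_bijective T hT C (hZ C hC) (orth_shift q.jst hZ (-1) C hC)
  have key : ∀ t : C ⟶ T.obj₂, t = (t ≫ p') ≫ s' := fun t => by
    conv_lhs => rw [← Category.comp_id t, ← htot, Preadditive.comp_add, ← Category.assoc,
      orth_jls q hC W (t ≫ p), zero_comp, zero_add, ← Category.assoc]
  have h2 : Function.Bijective (fun t : C ⟶ T.obj₂ => t ≫ p') :=
    ⟨fun a b h => by rw [key a, key b]; exact congrArg (· ≫ s') h,
      fun f => ⟨f ≫ s', by show (f ≫ s') ≫ p' = f; rw [Category.assoc, hs', Category.comp_id]⟩⟩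
  have h12 := h2.comp h1
  simpa [Function.comp_def, Category.assoc] using h12

theorem fst_map_bijective (hq : q.IsMV) {C : S} (hC : IsZero (q.jst.obj C)) (N : S) :
    Function.Bijective (fun g : C ⟶ N => q.fst.map g) := by
  obtain ⟨C₀, i, δ, hT⟩ := distinguished_cocone_triangle₁ (q.adjJ.unit.app N)
  haveI := isIso_jst_unit q hq N
  have hC₀ : IsZero (q.jst.obj C₀) :=
    (Triangle.isZero₁_iff_isIso₂ _ (q.jst.map_distinguished _ hT)).mpr ‹_›
  have h1 : Function.Bijective (fun g : C ⟶ C₀ => g ≫ i) :=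
    comp_mor₁_bijective _ hT C (orth_jls q hC _)
      (orth_shift q.jst (fun X hX t => orth_jls q hX _ t) (-1) C hC)
  haveI := hq.isIso_bc2App (q.jst.obj N)
  have hz : ∀ M, IsZero (q.jpst.obj M) → ∀ t : M ⟶ q.fst.obj (q.jls.obj (q.jst.obj N)), t = 0 := by
    intro M hM t
    rw [← cancel_mono (q.bc2App (q.jst.obj N)), zero_comp]
    exact orth_jpls q hM _ _
  have h2 : Function.Bijective (fun g : q.fst.obj C ⟶ q.fst.obj C₀ => g ≫ q.fst.map i) :=
    comp_mor₁_bijective _ (q.fst.map_distinguished _ hT) _ (hz _ (jpst_fst_isZero q hC))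
      (orth_shift q.jpst hz (-1) _ (jpst_fst_isZero q hC))
  haveI := hq.isIso_unitF C₀ hC₀
  have h3 : Function.Bijective (fun g : C ⟶ C₀ => q.fst.map g) := by
    rw [← Function.Bijective.of_comp_iff' (q.adjF.homEquiv C (q.fst.obj C₀)).bijective]
    have e : (⇑(q.adjF.homEquiv C (q.fst.obj C₀)) ∘ fun g : C ⟶ C₀ => q.fst.map g) =
        fun g => g ≫ q.adjF.unit.app C₀ := by
      funext g
      simp only [Function.comp_apply, Adjunction.homEquiv_unit]
      exact (q.adjF.unit.naturality g).symm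
    rw [e]
    exact ⟨fun a b h => (cancel_mono _).mp h, fun f => ⟨f ≫ inv (q.adjF.unit.app C₀), by simp⟩⟩
  rw [← Function.Bijective.of_comp_iff _ h1]
  have e : ((fun g : C ⟶ N => q.fst.map g) ∘ fun g : C ⟶ C₀ => g ≫ i) =
      (fun g => g ≫ q.fst.map i) ∘ fun g => q.fst.map g := by
    funext g; simp
  rw [e]
  exact h2.comp h3

theorem comp_unit_bijective (hq : q.IsMV) {C : S} (hC : IsZero (q.jst.obj C)) (N : S) :
    Function.Bijective (fun g : C ⟶ N => g ≫ q.adjF.unit.app N) := by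
  have e : (fun g : C ⟶ N => g ≫ q.adjF.unit.app N) =
      ⇑(q.adjF.homEquiv C (q.fst.obj N)) ∘ fun g => q.fst.map g := by
    funext g
    simp only [Function.comp_apply, Adjunction.homEquiv_unit]
    exact q.adjF.unit.naturality g
  rw [e]
  exact (q.adjF.homEquiv C (q.fst.obj N)).bijective.comp (fst_map_bijective q hq hC N)

/-- The first map of the Mayer-Vietoris triangle. -/
noncomputable abbrev mvA (N : S) : N ⟶ q.jls.obj (q.jst.obj N) ⊞ q.fls.obj (q.fst.obj N) :=
  biprod.lift (q.adjJ.unit.app N) (q.adjF.unit.app N)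

/-- The second map of the Mayer-Vietoris triangle. -/
noncomputable abbrev mvB (N : S) : q.jls.obj (q.jst.obj N) ⊞ q.fls.obj (q.fst.obj N) ⟶
    q.fls.obj (q.fst.obj (q.jls.obj (q.jst.obj N))) :=
  biprod.desc (q.adjF.unit.app (q.jls.obj (q.jst.obj N))) (-(q.fls.map (q.fst.map (q.adjJ.unit.app N))))

theorem isIso_jst_flsfst_unit (hq : q.IsMV) (N : S) :
    IsIso (q.jst.map (q.fls.map (q.fst.map (q.adjJ.unit.app N)))) := by
  haveI := isIso_jst_unit q hq N
  haveI := isIso_jpst_fst q (q.adjJ.unit.app N)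
  exact isIso_jst_fls q hq _

theorem exists_mv (hq : q.IsMV) (N : S) :
    ∃ d, Triangle.mk (mvA q N) (mvB q N) d ∈ distTriang S := by
  obtain ⟨K, a, d, hT⟩ := distinguished_cocone_triangle₁ (mvB q N)
  obtain ⟨k, hk⟩ : ∃ k : N ⟶ K, mvA q N = k ≫ a := Triangle.coyoneda_exact₂ _ hT (mvA q N) (by
    show mvA q N ≫ mvB q N = 0
    have e : q.adjJ.unit.app N ≫ q.adjF.unit.app (q.jls.obj (q.jst.obj N)) =
        q.adjF.unit.app N ≫ q.fls.map (q.fst.map (q.adjJ.unit.app N)) :=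
      q.adjF.unit.naturality (q.adjJ.unit.app N)
    rw [biprod.lift_desc, Preadditive.comp_neg, ← sub_eq_add_neg, sub_eq_zero]
    exact e)
  haveI := isIso_jst_unit q hq N
  haveI := isIso_jst_flsfst_unit q hq N
  have hJ : IsIso (q.jst.map k) := by
    haveI : IsIso (q.jst.map biprod.inr ≫ q.jst.map (mvB q N)) := by
      rw [← Functor.map_comp, biprod.inr_desc, Functor.map_neg]
      refine ⟨-inv (q.jst.map (q.fls.map (q.fst.map (q.adjJ.unit.app N)))), ?_, ?_⟩ <;> simp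
    obtain ⟨d', hT'⟩ := map_mk_distinguished q.jst hT
    haveI h : IsIso (q.jst.map a ≫ q.jst.map biprod.fst) :=
      isIso_comp_proj' hT' (q.jst.map biprod.fst) (q.jst.map biprod.inl)
        (q.jst.map biprod.inr) (q.jst.map biprod.snd)
        (by rw [← Functor.map_comp, biprod.inr_fst, Functor.map_zero])
        (by rw [← Functor.map_comp, biprod.inl_fst, CategoryTheory.Functor.map_id])
        (by rw [← Functor.map_comp, ← Functor.map_comp, ← Functor.map_add, biprod.total, CategoryTheory.Functor.map_id])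
        ‹_›
    have e : q.jst.map k ≫ (q.jst.map a ≫ q.jst.map biprod.fst) = q.jst.map (q.adjJ.unit.app N) := by
      rw [← Functor.map_comp, ← Functor.map_comp, ← Category.assoc, ← hk, biprod.lift_fst]
    exact IsIso.of_isIso_fac_right e
  have hZ : ∀ C, IsZero (q.jst.obj C) →
      ∀ t : C ⟶ q.fls.obj (q.fst.obj (q.jls.obj (q.jst.obj N))), t = 0 := by
    intro C hC t
    haveI := hq.isIso_bc2App (q.jst.obj N)
    rw [← cancel_mono (q.fls.map (q.bc2App (q.jst.obj N))), zero_comp]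
    exact orth_fls_jpls q hC _ _
  haveI : IsIso k := by
    refine isIso_of_orth (fun C => IsZero (q.jst.obj C)) k (fun Q g h hQ => ?_) (fun C hC => ?_)
    · have h0 : IsZero (q.jst.obj Q) :=
        (Triangle.isZero₃_iff_isIso₁ _ (q.jst.map_distinguished _ hQ)).mpr hJ
      exact ⟨h0, shift_killed q.jst h0 _⟩
    · have h1 := comp_biprod_snd_bijective q _ hT _ _ biprod.fst biprod.inl biprod.snd biprod.inr
        biprod.inr_snd biprod.total hZ hC
      show Function.Bijective (fun g : C ⟶ N => g ≫ k)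
      change Function.Bijective (fun g : C ⟶ K => g ≫ a ≫ biprod.snd) at h1
      rw [← Function.Bijective.of_comp_iff' h1]
      have e : ((fun g : C ⟶ K => g ≫ a ≫ biprod.snd) ∘ fun g : C ⟶ N => g ≫ k) =
          fun g => g ≫ q.adjF.unit.app N := by
        funext g
        rw [Function.comp_apply, Category.assoc, ← Category.assoc k, ← hk, biprod.lift_snd]
      exact e ▸ comp_unit_bijective q hq hC N
  refine ⟨d ≫ (inv k)⟦(1 : ℤ)⟧', isomorphic_distinguished _ hT _ ?_⟩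
  refine Triangle.isoMk _ _ (asIso k : N ≅ K) (Iso.refl _) (Iso.refl _) ?_ ?_ ?_
  · show mvA q N ≫ 𝟙 _ = k ≫ a
    rw [Category.comp_id, hk]
  · show mvB q N ≫ 𝟙 _ = 𝟙 _ ≫ mvB q N
    rw [Category.comp_id, Category.id_comp]
  · show (d ≫ (inv k)⟦(1 : ℤ)⟧') ≫ k⟦(1 : ℤ)⟧' = 𝟙 _ ≫ d
    rw [Category.assoc, ← CategoryTheory.Functor.map_comp, IsIso.inv_hom_id, CategoryTheory.Functor.map_id,
      Category.comp_id, Category.id_comp]

theorem mv_natural (hq : q.IsMV) {N₁ N₂ : S} (φ : N₁ ⟶ N₂)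
    (d₁ : q.fls.obj (q.fst.obj (q.jls.obj (q.jst.obj N₁))) ⟶ N₁⟦(1 : ℤ)⟧)
    (d₂ : q.fls.obj (q.fst.obj (q.jls.obj (q.jst.obj N₂))) ⟶ N₂⟦(1 : ℤ)⟧)
    (h₁ : Triangle.mk (mvA q N₁) (mvB q N₁) d₁ ∈ distTriang S)
    (h₂ : Triangle.mk (mvA q N₂) (mvB q N₂) d₂ ∈ distTriang S) :
    d₁ ≫ (shiftFunctor S (1 : ℤ)).map φ = q.fls.map (q.fst.map (q.jls.map (q.jst.map φ))) ≫ d₂ := by
  have eJ : φ ≫ q.adjJ.unit.app N₂ = q.adjJ.unit.app N₁ ≫ q.jls.map (q.jst.map φ) :=
    q.adjJ.unit.naturality φ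
  have eF : φ ≫ q.adjF.unit.app N₂ = q.adjF.unit.app N₁ ≫ q.fls.map (q.fst.map φ) :=
    q.adjF.unit.naturality φ
  obtain ⟨c, hc1, hc2⟩ := complete_distinguished_triangle_morphism _ _ h₁ h₂ φ
    (biprod.map (q.jls.map (q.jst.map φ)) (q.fls.map (q.fst.map φ)))
    (by
      show mvA q N₁ ≫ biprod.map _ _ = φ ≫ mvA q N₂
      apply biprod.hom_ext
      · rw [Category.assoc, biprod.map_fst, biprod.lift_fst_assoc, Category.assoc, biprod.lift_fst, eJ]
      · rw [Category.assoc, biprod.map_snd, biprod.lift_snd_assoc, Category.assoc, biprod.lift_snd, eF])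
  change q.fls.obj (q.fst.obj (q.jls.obj (q.jst.obj N₁))) ⟶ q.fls.obj (q.fst.obj (q.jls.obj (q.jst.obj N₂))) at c
  change mvB q N₁ ≫ c = biprod.map (q.jls.map (q.jst.map φ)) (q.fls.map (q.fst.map φ)) ≫ mvB q N₂ at hc1
  change d₁ ≫ φ⟦(1 : ℤ)⟧' = c ≫ d₂ at hc2
  have hx : biprod.inr ≫ mvB q N₁ ≫ c =
      biprod.inr ≫ biprod.map (q.jls.map (q.jst.map φ)) (q.fls.map (q.fst.map φ)) ≫ mvB q N₂ :=
    congrArg (fun x => biprod.inr ≫ x) hc1
  rw [biprod.inr_desc_assoc, biprod.inr_map_assoc, biprod.inr_desc, Preadditive.neg_comp,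
    Preadditive.comp_neg, neg_inj] at hx
  have hn : q.fls.map (q.fst.map (q.adjJ.unit.app N₁)) ≫ q.fls.map (q.fst.map (q.jls.map (q.jst.map φ))) =
      q.fls.map (q.fst.map φ) ≫ q.fls.map (q.fst.map (q.adjJ.unit.app N₂)) := by
    simp only [← Functor.map_comp, eJ]
  haveI := hq.isIso_bc2App (q.jst.obj N₂)
  haveI := isIso_jst_flsfst_unit q hq N₁
  have hz : (c - q.fls.map (q.fst.map (q.jls.map (q.jst.map φ)))) ≫
      q.fls.map (q.bc2App (q.jst.obj N₂)) = 0 := by
    refine comp_eq_zero_cancel q (q.fls.map (q.fst.map (q.adjJ.unit.app N₁))) _ _ ?_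
    rw [← Category.assoc, Preadditive.comp_sub, hx, hn, sub_self, zero_comp]
  rw [← zero_comp (f := q.fls.map (q.bc2App (q.jst.obj N₂))), cancel_mono, sub_eq_zero] at hz
  rw [hc2, hz]

end Groth.Agent.MV52
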