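import Mathlib.CategoryTheory.Triangulated.Pretriangulated
import Mathlib.CategoryTheory.Triangulated.Functor

namespace Groth.Agent.MV52

open CategoryTheory CategoryTheory.Limits CategoryTheory.Pretriangulated

universe v u

variable {C : Type u} [Category.{v} C] [Preadditive C] [HasZeroObject C] [HasShift C ℤ]
  [∀ n : ℤ, (shiftFunctor C n).Additive] [Pretriangulated C]

theorem comp_mor₁_bijective (T : Triangle C) (hT : T ∈ distTriang C) (X : C)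
    (h0 : ∀ t : X ⟶ T.obj₃, t = 0) (h1 : ∀ t : X ⟶ T.obj₃⟦(-1 : ℤ)⟧, t = 0) :
    Function.Bijective (fun g : X ⟶ T.obj₁ => g ≫ T.mor₁) := by
  refine ⟨fun g g' h => ?_, fun f => ?_⟩
  · rw [← sub_eq_zero]
    obtain ⟨t, ht⟩ := Triangle.coyoneda_exact₂ T.invRotate (inv_rot_of_distTriang _ hT)
      (X := X) (g - g') (by
        show (g - g') ≫ T.mor₁ = 0
        rw [Preadditive.sub_comp, sub_eq_zero]; exact h)
    rw [ht, show t = 0 from h1 t, zero_comp]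
    rfl
  · obtain ⟨g, hg⟩ := Triangle.coyoneda_exact₂ T hT f (h0 _)
    exact ⟨g, hg.symm⟩

theorem isIso_of_orth (P : C → Prop) {X Y : C} (w : X ⟶ Y)
    (hP : ∀ (Q : C) (g : Y ⟶ Q) (h : Q ⟶ X⟦(1 : ℤ)⟧), Triangle.mk w g h ∈ distTriang C →
      P Q ∧ P (Q⟦(-1 : ℤ)⟧))
    (hb : ∀ A, P A → Function.Bijective (fun g : A ⟶ X => g ≫ w)) : IsIso w := by
  obtain ⟨Q, g, h, hT⟩ := distinguished_cocone_triangle w
  obtain ⟨p0, p1⟩ := hP Q g h hT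
  have hinv := inv_rot_of_distTriang _ hT
  have hzero : (Triangle.mk w g h).invRotate.mor₁ = 0 := (hb _ p1).1 (by
    show (Triangle.mk w g h).invRotate.mor₁ ≫ w = 0 ≫ w
    rw [zero_comp]
    exact comp_distTriang_mor_zero₁₂ _ hinv)
  have hmono : Mono (Triangle.mk w g h).invRotate.mor₂ :=
    (Triangle.mor₁_eq_zero_iff_mono₂ _ hinv).mp hzero
  have h3 : h = 0 := (Triangle.mor₃_eq_zero_iff_mono₁ _ hT).mpr hmono
  obtain ⟨t, ht⟩ := Triangle.coyoneda_exact₃ _ hT (𝟙 Q) (by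
    show 𝟙 Q ≫ h = 0
    rw [h3, comp_zero])
  obtain ⟨t', ht'⟩ := (hb Q p0).2 t
  have hQ : IsZero Q := by
    rw [IsZero.iff_id_eq_zero]
    refine ht.trans ?_
    show t ≫ g = 0
    rw [← ht']
    show (t' ≫ w) ≫ g = 0
    rw [Category.assoc, show w ≫ g = 0 from comp_distTriang_mor_zero₁₂ _ hT, comp_zero]
  exact (Triangle.isZero₃_iff_isIso₁ _ hT).mp hQ

theorem isIso_comp_proj (T : Triangle C) (hT : T ∈ distTriang C) {A B : C} (p : T.obj₂ ⟶ A)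
    (s : A ⟶ T.obj₂) (i : B ⟶ T.obj₂) (q : T.obj₂ ⟶ B) (hi : i ≫ p = 0) (hs : s ≫ p = 𝟙 A)
    (htot : p ≫ s + q ≫ i = 𝟙 T.obj₂) [IsIso (i ≫ T.mor₂)] : IsIso (T.mor₁ ≫ p) := by
  let e : T.obj₂ ⟶ T.obj₂ := 𝟙 _ - T.mor₂ ≫ inv (i ≫ T.mor₂) ≫ i
  have heb : e ≫ T.mor₂ = 0 := by simp [e, Preadditive.sub_comp]
  have hep : e ≫ p = p := by simp [e, Preadditive.sub_comp, hi]
  have hie : i ≫ e = 0 := by
    simp only [e, Preadditive.comp_sub, Category.comp_id, ← Category.assoc]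
    simp
  have hpse : p ≫ s ≫ e = e := by
    calc p ≫ s ≫ e = (p ≫ s + q ≫ i) ≫ e := by
          rw [Preadditive.add_comp, Category.assoc, Category.assoc, hie, comp_zero, add_zero]
      _ = e := by rw [htot, Category.id_comp]
  obtain ⟨l, hl⟩ := Triangle.coyoneda_exact₂ T hT (s ≫ e) (by rw [Category.assoc, heb, comp_zero])
  have hepi : Epi T.mor₂ := epi_of_epi i T.mor₂
  have hmono : Mono T.mor₁ :=
    (Triangle.mor₃_eq_zero_iff_mono₁ _ hT).mp ((Triangle.mor₃_eq_zero_iff_epi₂ _ hT).mpr hepi)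
  refine ⟨l, ?_, ?_⟩
  · rw [← cancel_mono T.mor₁, Category.assoc, Category.assoc, ← hl, hpse, Category.id_comp]
    simp [e, Preadditive.comp_sub, comp_distTriang_mor_zero₁₂_assoc _ hT]
  · rw [← Category.assoc, ← hl, Category.assoc, hep, hs]

theorem comp_mor₁_bijective' {A B Z : C} {a : A ⟶ B} {b : B ⟶ Z} {d : Z ⟶ A⟦(1 : ℤ)⟧}
    (hT : Triangle.mk a b d ∈ distTriang C) (X : C)
    (h0 : ∀ t : X ⟶ Z, t = 0) (h1 : ∀ t : X ⟶ Z⟦(-1 : ℤ)⟧, t = 0) :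
    Function.Bijective (fun g : X ⟶ A => g ≫ a) :=
  comp_mor₁_bijective _ hT X h0 h1

theorem isIso_comp_proj' {X Y Z A B : C} {a : X ⟶ Y} {b : Y ⟶ Z} {d : Z ⟶ X⟦(1 : ℤ)⟧}
    (hT : Triangle.mk a b d ∈ distTriang C) (p : Y ⟶ A) (s : A ⟶ Y) (i : B ⟶ Y) (q : Y ⟶ B)
    (hi : i ≫ p = 0) (hs : s ≫ p = 𝟙 A) (htot : p ≫ s + q ≫ i = 𝟙 Y) (hib : IsIso (i ≫ b)) :
    IsIso (a ≫ p) :=
  @isIso_comp_proj C _ _ _ _ _ _ (Triangle.mk a b d) hT A B p s i q hi hs htot hib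

theorem map_mk_distinguished {D : Type u} [Category.{v} D] [Preadditive D] [HasZeroObject D] [HasShift D ℤ]
    [∀ n : ℤ, (shiftFunctor D n).Additive] [Pretriangulated D] (F : C ⥤ D) [F.CommShift ℤ] [F.IsTriangulated]
    {X Y Z : C} {a : X ⟶ Y} {b : Y ⟶ Z} {d : Z ⟶ X⟦(1 : ℤ)⟧} (hT : Triangle.mk a b d ∈ distTriang C) :
    ∃ d' : F.obj Z ⟶ (F.obj X)⟦(1 : ℤ)⟧, Triangle.mk (F.map a) (F.map b) d' ∈ distTriang D :=
  ⟨_, F.map_distinguished _ hT⟩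

end Groth.Agent.MV52
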